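import Groth.Agent.Unib62.Core
import Groth.Agent.FlatMor67.FlatAtDesc
import Groth.Agent.Hopf35.FlatLocusHensel
import Mathlib.FieldTheory.PurelyInseparable.Basic

/-! Flatness at a point from flatness at the points of an injective local base change. -/

set_option autoImplicit false
set_option linter.style.haveILetI false

universe u

open IsLocalRing TensorProduct

namespace Groth.Agent.Unib62

/-- The contraction of the maximal ideal under a local homomorphism. -/
theorem comap_maximal {R S : Type u} [CommRing R] [CommRing S] [IsLocalRing R] [IsLocalRing S] (f : R →+* S)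
    [hf : IsLocalHom f] : (maximalIdeal S).comap f = maximalIdeal R :=
  ((IsLocalRing.local_hom_TFAE f).out 0 4).1 hf

theorem isLocalHom_atPrime {R T : Type u} [CommRing R] [IsLocalRing R] [CommRing T] [Algebra R T] (N : Ideal T) [N.IsPrime]
    (hR : N.comap (algebraMap R T) = maximalIdeal R) : IsLocalHom (algebraMap R (Localization.AtPrime N)) := by
  refine ((IsLocalRing.local_hom_TFAE (algebraMap R (Localization.AtPrime N))).out 0 4).2 ?_
  rw [IsScalarTower.algebraMap_eq R T (Localization.AtPrime N), ← Ideal.comap_comap,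
    show (maximalIdeal (Localization.AtPrime N)).comap (algebraMap T (Localization.AtPrime N)) = N from
      IsLocalization.AtPrime.under_maximalIdeal _ N, hR]

/-- Flatness at a prime passes to a base change. -/
theorem flat_atPrime_baseChange {R S R' S' : Type u} [CommRing R] [CommRing S] [CommRing R'] [CommRing S']
    [Algebra R S] [Algebra R R'] [Algebra S S'] [Algebra R' S'] [Algebra R S'] [IsScalarTower R S S']
    [IsScalarTower R R' S'] [Algebra.IsPushout R S R' S'] (Q : Ideal S') [Q.IsPrime]
    (h : Module.Flat R (Localization.AtPrime (Q.comap (algebraMap S S')))) :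
    Module.Flat R' (Localization.AtPrime Q) :=
  (flatAt_self_iff Q).1 (FlatMor67.FlatAtBC.flatAt_baseChange (Algebra.linearMap S S') (IsBaseChange.linearMap S S') Q
    ((flatAt_self_iff _).2 h))

section Tower

variable {A B A' P' A'' P : Type u} [CommRing A] [CommRing B] [CommRing A'] [CommRing P'] [CommRing A''] [CommRing P]
  [Algebra A B] [Algebra A A'] [Algebra B P'] [Algebra A' P'] [Algebra A P'] [IsScalarTower A B P'] [IsScalarTower A A' P']
  [hS1 : Algebra.IsPushout A B A' P'] [Algebra A A''] [Algebra A' A''] [hS2 : IsScalarTower A A' A'']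
  [Algebra B P] [Algebra A'' P] [Algebra A P] [IsScalarTower A B P] [IsScalarTower A A'' P] [hS3 : Algebra.IsPushout A B A'' P]

include hS1 hS2 hS3

variable (A B A' P' A'' P) in
/-- The square induced on a further base change. -/
theorem exists_square : ∃ (_ : Algebra A' P) (_ : Algebra P' P) (_ : IsScalarTower A A' P) (_ : IsScalarTower A' A'' P)
    (_ : IsScalarTower A' P' P) (_ : IsScalarTower B P' P), Algebra.IsPushout A' P' A'' P := by
  letI : Algebra A' P := ((algebraMap A'' P).comp (algebraMap A' A'')).toAlgebra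
  haveI : IsScalarTower A' A'' P := IsScalarTower.of_algebraMap_eq fun _ => rfl
  haveI : IsScalarTower A A' P := IsScalarTower.of_algebraMap_eq fun a => by
    rw [IsScalarTower.algebraMap_apply A' A'' P, ← IsScalarTower.algebraMap_apply A A' A'', ← IsScalarTower.algebraMap_apply A A'' P]
  haveI : Algebra.IsPushout A A' B P' := Algebra.IsPushout.symm inferInstance
  letI : Algebra P' P := (Algebra.pushoutDesc (R := A) (S := A') (R' := B) (S' := P') (IsScalarTower.toAlgHom A A' P)
    (IsScalarTower.toAlgHom A B P) (fun x y => mul_comm _ _)).toRingHom.toAlgebra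
  haveI : IsScalarTower A' P' P := IsScalarTower.of_algebraMap_eq fun a =>
    (Algebra.pushoutDesc_left (R := A) (S := A') (R' := B) P' (IsScalarTower.toAlgHom A A' P)
      (IsScalarTower.toAlgHom A B P) (fun x y => mul_comm _ _) a).symm
  haveI : IsScalarTower B P' P := IsScalarTower.of_algebraMap_eq fun a =>
    (Algebra.pushoutDesc_right (R := A) (S := A') (R' := B) P' (IsScalarTower.toAlgHom A A' P)
      (IsScalarTower.toAlgHom A B P) (fun x y => mul_comm _ _) a).symm
  haveI : Algebra.IsPushout A A'' B P := Algebra.IsPushout.symm inferInstance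
  exact ⟨inferInstance, inferInstance, inferInstance, inferInstance, inferInstance, inferInstance,
    ((Algebra.IsPushout.comp_iff A A' B (S' := P') (T := A'') (T' := P)).1 inferInstance).symm⟩

variable [IsLocalRing A'] [IsLocalRing A''] [IsLocalHom (algebraMap A' A'')]

variable (P') in
/-- Flatness at all points over a point passes to a further local base change. -/
theorem flat_of_forall (q : Ideal B)
    (h : ∀ (Q' : Ideal P') [Q'.IsPrime], Q'.comap (algebraMap A' P') = maximalIdeal A' →
      Q'.comap (algebraMap B P') = q → Module.Flat A' (Localization.AtPrime Q'))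
    (Q : Ideal P) [Q.IsPrime] (h1 : Q.comap (algebraMap A'' P) = maximalIdeal A'')
    (h2 : Q.comap (algebraMap B P) = q) : Module.Flat A'' (Localization.AtPrime Q) := by
  obtain ⟨_, _, _, _, _, _, _⟩ := exists_square A B A' P' A'' P
  refine flat_atPrime_baseChange (R := A') (S := P') Q (h _ ?_ ?_)
  · rw [Ideal.comap_comap, ← IsScalarTower.algebraMap_eq, IsScalarTower.algebraMap_eq A' A'' P, ← Ideal.comap_comap, h1]
    exact comap_maximal _
  · rw [Ideal.comap_comap, ← IsScalarTower.algebraMap_eq, h2]

variable (P) in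
/-- A flat point lifts to a flat point of a further local base change. -/
theorem exists_flat_lift (Q' : Ideal P') [Q'.IsPrime] (h1 : Q'.comap (algebraMap A' P') = maximalIdeal A')
    (h : Module.Flat A' (Localization.AtPrime Q')) :
    ∃ (Q : Ideal P) (_ : Q.IsPrime), Q.comap (algebraMap A'' P) = maximalIdeal A'' ∧
      Q.comap (algebraMap B P) = Q'.comap (algebraMap B P') ∧ Module.Flat A'' (Localization.AtPrime Q) := by
  obtain ⟨_, _, _, _, _, _, _⟩ := exists_square A B A' P' A'' P
  obtain ⟨Q, hQ, hQ1, hQ2⟩ := FlatMor67.FlatAtDesc.exists_prime_pushout (R := A') (S := P') (R' := A'') (S' := P)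
    Q' (maximalIdeal A'') (h1.trans (comap_maximal (algebraMap A' A'')).symm)
  refine ⟨Q, hQ, hQ2, ?_, ?_⟩
  · rw [← hQ1, Ideal.comap_comap, ← IsScalarTower.algebraMap_eq]
  · refine flat_atPrime_baseChange (R := A') (S := P') Q ?_
    subst hQ1
    exact h

end Tower

/-- A local ring dominating two local algebras. -/
theorem exists_dominating {A A' H : Type u} [CommRing A] [IsLocalRing A] [CommRing A'] [IsLocalRing A']
    [CommRing H] [IsLocalRing H] [Algebra A A'] [Algebra A H] [IsLocalHom (algebraMap A A')]
    [IsLocalHom (algebraMap A H)] [Module.Flat A H] (hinj : Function.Injective (algebraMap A A')) :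
    ∃ (A'' : Type u) (_ : CommRing A'') (_ : IsLocalRing A'') (_ : Algebra H A'') (_ : Algebra A' A'') (_ : Algebra A A'')
      (_ : IsScalarTower A A' A'') (_ : IsScalarTower A H A'') (_ : IsLocalHom (algebraMap H A''))
      (_ : IsLocalHom (algebraMap A' A'')),
      Function.Injective ((algebraMap H A'').comp (algebraMap A H)) ∧
      ((∀ a : A', ∃ p : Polynomial A, p.Monic ∧ Polynomial.aeval a p ∈ maximalIdeal A') →
        ∀ x : ResidueField A'', IsAlgebraic (ResidueField H) x) := by
  letI : Algebra H (A' ⊗[A] H) := Algebra.TensorProduct.rightAlgebra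
  haveI : IsScalarTower A H (A' ⊗[A] H) := IsScalarTower.of_algebraMap_eq fun r =>
    ((Algebra.TensorProduct.includeRight : H →ₐ[A] A' ⊗[A] H).commutes r).symm
  obtain ⟨N, hN, hN1, hN2⟩ := FlatMor67.FlatAtDesc.exists_prime_pushout (R := A) (S := A') (R' := H) (S' := A' ⊗[A] H)
    (maximalIdeal A') (maximalIdeal H)
    ((comap_maximal (algebraMap A A')).trans (comap_maximal (algebraMap A H)).symm)
  let T := A' ⊗[A] H
  let L := Localization.AtPrime N
  haveI : IsLocalHom (algebraMap H L) := isLocalHom_atPrime N hN2
  haveI : IsLocalHom (algebraMap A' L) := isLocalHom_atPrime N hN1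
  haveI : Module.Flat A' L := Module.Flat.trans A' T L
  haveI : Module.FaithfullyFlat A' L := Module.FaithfullyFlat.of_flat_of_isLocalHom
  refine ⟨L, inferInstance, inferInstance, inferInstance, inferInstance, inferInstance, inferInstance, inferInstance,
    inferInstance, inferInstance, ?_, fun halg x => ?_⟩
  · rw [← IsScalarTower.algebraMap_eq, IsScalarTower.algebraMap_eq A A' L]
    exact (FaithfulSMul.algebraMap_injective A' L).comp hinj
  let F := ResidueField H
  let E := ResidueField L
  have hA' : ∀ a : A', IsIntegral F (algebraMap A' E a) := by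
    intro a
    obtain ⟨p, hp, hpa⟩ := halg a
    refine ⟨p.map (algebraMap A F), hp.map _, ?_⟩
    rw [Polynomial.eval₂_map, ← IsScalarTower.algebraMap_eq, ← Polynomial.aeval_def, Polynomial.aeval_algebraMap_apply]
    show residue L (algebraMap A' L (Polynomial.aeval a p)) = 0
    rw [residue_eq_zero_iff]
    exact map_nonunit (algebraMap A' L) _ hpa
  have hT : ∀ t : T, IsIntegral F (residue L (algebraMap T L t)) := by
    intro t
    induction t using TensorProduct.induction_on with
    | zero => rw [map_zero, map_zero]; exact isIntegral_zero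
    | tmul a h =>
      have : a ⊗ₜ[A] h = algebraMap A' T a * algebraMap H T h := by
        show _ = (a ⊗ₜ[A] (1 : H)) * ((1 : A') ⊗ₜ[A] h)
        rw [Algebra.TensorProduct.tmul_mul_tmul, mul_one, one_mul]
      rw [this, map_mul, map_mul, ← IsScalarTower.algebraMap_apply, ← IsScalarTower.algebraMap_apply]
      exact (hA' a).mul (isIntegral_algebraMap (R := F) (A := E) (x := residue H h))
    | add a b ha hb => rw [map_add, map_add]; exact ha.add hb
  obtain ⟨y, rfl⟩ := residue_surjective x
  obtain ⟨t, s, rfl⟩ := IsLocalization.exists_mk'_eq N.primeCompl y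
  refine isAlgebraic_iff_isIntegral.2 ?_
  have hs : residue L (algebraMap T L s) ≠ 0 := fun h0 => by
    rw [residue_eq_zero_iff] at h0
    exact h0 (IsLocalization.map_units L s)
  have : residue L (IsLocalization.mk' L t s) = residue L (algebraMap T L t) * (residue L (algebraMap T L s))⁻¹ := by
    rw [eq_mul_inv_iff_mul_eq₀ hs, ← map_mul, IsLocalization.mk'_spec]
  rw [this]
  exact (hT t).mul (hT s).inv

/-- Over a purely inseparable residue extension a point has only one preimage over the closed point. -/
theorem eq_of_purelyInseparable {H S A'' P : Type u} [CommRing H] [IsLocalRing H] [CommRing S] [CommRing A'']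
    [IsLocalRing A''] [CommRing P] [Algebra H S] [Algebra H A''] [Algebra S P] [Algebra A'' P] [Algebra H P]
    [IsScalarTower H S P] [IsScalarTower H A'' P] [Algebra.IsPushout H S A'' P] [IsLocalHom (algebraMap H A'')]
    [IsPurelyInseparable (ResidueField H) (ResidueField A'')]
    (Q₁ Q₂ : Ideal P) [Q₁.IsPrime] [Q₂.IsPrime] (h₁ : Q₁.comap (algebraMap A'' P) = maximalIdeal A'')
    (h₂ : Q₂.comap (algebraMap A'' P) = maximalIdeal A'')
    (h : Q₁.comap (algebraMap S P) = Q₂.comap (algebraMap S P)) : Q₁ = Q₂ := by
  let I : Ideal P := (maximalIdeal A'').map (algebraMap A'' P)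
  let R := P ⧸ I
  have hI₁ : I ≤ Q₁ := Ideal.map_le_iff_le_comap.2 h₁.ge
  have hI₂ : I ≤ Q₂ := Ideal.map_le_iff_le_comap.2 h₂.ge
  let κ := ResidueField A''
  letI : Algebra κ R := (Ideal.Quotient.lift (maximalIdeal A'') ((Ideal.Quotient.mk I).comp (algebraMap A'' P))
    fun a ha => Ideal.Quotient.eq_zero_iff_mem.2 (Ideal.mem_map_of_mem _ ha)).toAlgebra
  haveI : Nontrivial R := Ideal.Quotient.nontrivial_iff.2 fun ht => ‹Q₁.IsPrime›.ne_top (top_le_iff.1 (ht ▸ hI₁))
  let p := ringExpChar (ResidueField H)
  haveI : ExpChar (ResidueField H) p := ringExpChar.expChar _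
  haveI : ExpChar κ p := expChar_of_injective_algebraMap (algebraMap (ResidueField H) κ).injective p
  haveI : ExpChar R p := expChar_of_injective_algebraMap (algebraMap κ R).injective p
  have key : ∀ z : P, ∃ (n : ℕ) (s : S), Ideal.Quotient.mk I z ^ p ^ n = Ideal.Quotient.mk I (algebraMap S P s) := by
    intro z
    obtain ⟨z, rfl⟩ := (Algebra.IsPushout.equiv H S A'' P).surjective z
    induction z using TensorProduct.induction_on with
    | zero => exact ⟨0, 0, by simp⟩
    | add a b ha hb =>
      obtain ⟨n, s, hn⟩ := ha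
      obtain ⟨k, t, hk⟩ := hb
      refine ⟨n + k, s ^ p ^ k + t ^ p ^ n, ?_⟩
      rw [map_add, map_add, add_pow_expChar_pow, pow_add, pow_mul, hn, mul_comm (p ^ n), pow_mul, hk]
      simp only [map_add, map_pow]
    | tmul s a =>
      obtain ⟨k, hk⟩ := IsPurelyInseparable.pow_mem (ResidueField H) p (residue A'' a)
      obtain ⟨c, hc⟩ := hk
      obtain ⟨c, rfl⟩ := residue_surjective c
      refine ⟨k, s ^ p ^ k * algebraMap H S c, ?_⟩
      have ha : Ideal.Quotient.mk I (algebraMap A'' P a) ^ p ^ k = Ideal.Quotient.mk I (algebraMap S P (algebraMap H S c)) := by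
        show algebraMap κ R (residue A'' a) ^ p ^ k = _
        rw [← map_pow, ← hc, ← IsScalarTower.algebraMap_apply H S P, IsScalarTower.algebraMap_apply H A'' P]
        rfl
      rw [Algebra.IsPushout.equiv_tmul, map_mul, mul_pow, ha]
      simp only [map_mul, map_pow]
  have aux : ∀ (Q Q' : Ideal P) [Q.IsPrime] [Q'.IsPrime], I ≤ Q → I ≤ Q' →
      Q.comap (algebraMap S P) = Q'.comap (algebraMap S P) → Q ≤ Q' := by
    intro Q Q' _ _ hQ hQ' he z hz
    obtain ⟨n, s, hn⟩ := key z
    rw [← map_pow, Ideal.Quotient.eq] at hn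
    have hpos : 0 < p ^ n := pow_pos (expChar_pos (ResidueField H) p) n
    have h1 : algebraMap S P s ∈ Q := by
      have := sub_mem (Ideal.pow_mem_of_mem Q hz _ hpos) (hQ hn)
      simpa using this
    have h2 : algebraMap S P s ∈ Q' := he.le h1
    refine ‹Q'.IsPrime›.mem_of_pow_mem (p ^ n) ?_
    have := add_mem (hQ' hn) h2
    simpa using this
  exact le_antisymm (aux Q₁ Q₂ hI₁ hI₂ h) (aux Q₂ Q₁ hI₂ hI₁ h.symm)

end Groth.Agent.Unib62
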