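import Groth.Agent.Unib62.Ring
import Groth.Agent.LimTop61.FlatSemiLocal
import Groth.Agent.SpFP87.FlatAt

/-! Affine charts for flatness at the points over a point, after a local base change. -/

set_option autoImplicit false
set_option linter.style.haveILetI false

universe u

open CategoryTheory CategoryTheory.Limits AlgebraicGeometry TensorProduct

attribute [local instance] Algebra.TensorProduct.rightAlgebra

namespace Groth.Agent.Unib62

/-- Flatness of a stalk map between affine schemes. -/
theorem flat_stalkMap_Spec_iff {A B : CommRingCat.{u}} (φ : A ⟶ B) (p : PrimeSpectrum B) :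
    ((Spec.map φ).stalkMap p).hom.Flat ↔ ((algebraMap B (Localization.AtPrime p.asIdeal)).comp φ.hom).Flat := by
  refine ⟨LimTop61.flat_algebraMap_localization_of_flat_stalkMap φ p, fun h => ?_⟩
  refine (RingHom.Flat.respectsIso.arrow_mk_iso_iff (Scheme.arrowStalkMapSpecIso φ p)).mpr ?_
  let q := (p.comap φ.hom).asIdeal
  let L := Localization.AtPrime p.asIdeal
  let Aq := Localization.AtPrime q
  letI : Algebra A L := ((algebraMap B L).comp φ.hom).toAlgebra
  letI : Algebra Aq L := (Localization.localRingHom q p.asIdeal φ.hom rfl).toAlgebra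
  haveI : IsScalarTower A Aq L := IsScalarTower.of_algebraMap_eq fun a =>
    (Localization.localRingHom_to_map q p.asIdeal φ.hom rfl a).symm
  haveI : Module.Flat A L := RingHom.flat_algebraMap_iff.1 h
  exact RingHom.flat_algebraMap_iff.2 ((Module.flat_iff_of_isLocalization Aq q.primeCompl L).2 inferInstance)

/-- A chart at a point and the points of a base change over it. -/
theorem exists_chart_data {A : Type u} [CommRing A] [IsLocalRing A] {X : Scheme.{u}}
    (f : X ⟶ Spec (CommRingCat.of A)) [LocallyOfFinitePresentation f] (x : X)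
    (hx : f.base x = IsLocalRing.closedPoint A) :
    ∃ (B : Type u) (_ : CommRing B) (_ : Algebra A B) (q : Ideal B) (_ : q.IsPrime),
      Algebra.FinitePresentation A B ∧ q.comap (algebraMap A B) = IsLocalRing.maximalIdeal A ∧
      (Module.Flat A (Localization.AtPrime q) → (f.stalkMap x).hom.Flat) ∧
      ∀ (A' : Type u) [CommRing A'] [IsLocalRing A'] [Algebra A A']
        (x' : ↥(pullback f (Spec.map (CommRingCat.ofHom (algebraMap A A'))))),
        ((∀ (Q : Ideal (A' ⊗[A] B)) [Q.IsPrime],
            Q.comap (algebraMap A' (A' ⊗[A] B)) = IsLocalRing.maximalIdeal A' →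
            Q.comap (algebraMap B (A' ⊗[A] B)) = q →
            ∃ z : ↥(pullback f (Spec.map (CommRingCat.ofHom (algebraMap A A')))),
              (pullback.fst f _).base z = x ∧
              (pullback.snd f (Spec.map (CommRingCat.ofHom (algebraMap A A')))).base z = IsLocalRing.closedPoint A' ∧
              (((pullback.snd f (Spec.map (CommRingCat.ofHom (algebraMap A A')))).stalkMap z).hom.Flat →
                Module.Flat A' (Localization.AtPrime Q))) ∧
          ((pullback.fst f _).base x' = x →
            (pullback.snd f (Spec.map (CommRingCat.ofHom (algebraMap A A')))).base x' = IsLocalRing.closedPoint A' →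
            ∃ (Q : Ideal (A' ⊗[A] B)) (_ : Q.IsPrime),
              Q.comap (algebraMap A' (A' ⊗[A] B)) = IsLocalRing.maximalIdeal A' ∧
              Q.comap (algebraMap B (A' ⊗[A] B)) = q ∧
              (((pullback.snd f (Spec.map (CommRingCat.ofHom (algebraMap A A')))).stalkMap x').hom.Flat →
                Module.Flat A' (Localization.AtPrime Q)))) := by
  obtain ⟨W, hW, hxW, -⟩ := exists_isAffineOpen_mem_and_subset (X := X) (x := x) (U := ⊤) trivial
  obtain ⟨φ, hφ⟩ := Spec.map_surjective (hW.fromSpec ≫ f)
  have hφ' : φ.hom.FinitePresentation :=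
    (HasRingHomProperty.Spec_iff (P := @LocallyOfFinitePresentation)).1 (by rw [hφ]; infer_instance)
  algebraize [φ.hom]
  obtain ⟨w, hw⟩ : x ∈ Set.range hW.fromSpec := by rw [hW.range_fromSpec]; exact hxW
  let q : Ideal Γ(X, W) := w.asIdeal
  have hq : q.comap (algebraMap A Γ(X, W)) = IsLocalRing.maximalIdeal A := by
    have h1 : (Spec.map φ) w = IsLocalRing.closedPoint A := by rw [hφ, Scheme.Hom.comp_apply, hw]; exact hx
    exact congrArg PrimeSpectrum.asIdeal h1
  haveI := hW.isOpenImmersion_fromSpec
  refine ⟨Γ(X, W), inferInstance, inferInstance, q, inferInstance, inferInstance, hq, fun h => ?_, ?_⟩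
  · have h1 : ((hW.fromSpec ≫ f).stalkMap w).hom.Flat :=
      SpFP87.flat_stalkMap_congr hφ ((flat_stalkMap_Spec_iff φ w).2 (RingHom.flat_algebraMap_iff.2 h))
    rw [Scheme.Hom.stalkMap_comp] at h1
    exact SpFP87.flat_stalkMap_point f hw ((RingHom.Flat.respectsIso.cancel_right_isIso _ _).1 h1)
  intro A' _ _ _ x'
  let g := Spec.map (CommRingCat.ofHom (algebraMap A A'))
  let P := A' ⊗[A] Γ(X, W)
  have hpo := isPullback_SpecMap_of_isPushout _ _ _ _ (CommRingCat.isPushout_tensorProduct A A' Γ(X, W))
  let iR : Spec (CommRingCat.of P) ⟶ Spec Γ(X, W) := Spec.map (CommRingCat.ofHom (algebraMap Γ(X, W) P))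
  let m : Spec (CommRingCat.of P) ⟶ pullback f g := pullback.lift
    (iR ≫ hW.fromSpec) (Spec.map (CommRingCat.ofHom (algebraMap A' P)))
    (by rw [Category.assoc, ← hφ]; exact hpo.w.symm)
  have hm : IsPullback iR m hW.fromSpec (pullback.fst f g) := by
    refine IsPullback.of_bot ?_ (pullback.lift_fst _ _ _).symm (IsPullback.of_hasPullback f g)
    rw [pullback.lift_snd, ← hφ]
    exact hpo.flip
  haveI : IsOpenImmersion m := MorphismProperty.of_isPullback (P := @IsOpenImmersion) hm inferInstance
  have hflat : ∀ z : Spec (CommRingCat.of P), ((pullback.snd f g).stalkMap (m z)).hom.Flat →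
      Module.Flat A' (Localization.AtPrime z.asIdeal) := by
    intro z hz
    have h1 : ((m ≫ pullback.snd f g).stalkMap z).hom.Flat :=
      SpFP87.flat_stalkMap_comp m _ (Flat.stalkMap m z) hz
    exact RingHom.flat_algebraMap_iff.1
      ((flat_stalkMap_Spec_iff _ z).1 (SpFP87.flat_stalkMap_congr (pullback.lift_snd _ _ _) h1))
  refine ⟨fun Q _ h1 h2 => ?_, fun h1 h2 => ?_⟩
  · let z : Spec (CommRingCat.of P) := ⟨Q, inferInstance⟩
    refine ⟨m z, ?_, ?_, hflat z⟩
    · show (m ≫ pullback.fst f g) z = x
      rw [pullback.lift_fst, Scheme.Hom.comp_apply, ← hw]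
      exact congrArg _ (PrimeSpectrum.ext h2)
    · show (m ≫ pullback.snd f g) z = _
      rw [pullback.lift_snd]
      exact PrimeSpectrum.ext h1
  · obtain ⟨z, hz1, hz2⟩ := Scheme.exists_preimage_of_isPullback hm w x' (hw.trans h1.symm)
    refine ⟨z.asIdeal, z.isPrime, ?_, congrArg PrimeSpectrum.asIdeal hz1, fun h => hflat z (hz2.symm ▸ h)⟩
    have : (m ≫ pullback.snd f g) z = IsLocalRing.closedPoint A' := by rw [Scheme.Hom.comp_apply, hz2]; exact h2
    rw [pullback.lift_snd] at this
    exact congrArg PrimeSpectrum.asIdeal this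

end Groth.Agent.Unib62
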