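import Groth.Agent.Brnch26.Local
import Groth.Agent.Brnch26.Emb
import Groth.Agent.Hensel20.Stages
import Groth.Agent.Unr55.EtAscent
import Groth.Agent.Henz21.FaithfullyFlat
import Mathlib.RingTheory.Unramified.LocalStructure

/-! Henselizations of unibranch local domains: domains in which ideals are detected on the base. -/

set_option autoImplicit false
set_option linter.style.haveILetI false

universe u

open IsLocalRing TensorProduct

namespace Groth.Agent.Unib62

variable {A : Type u} [CommRing A] [IsLocalRing A] (K : Type u) [Field K] [Algebra A K]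
  [IsLocalHom (algebraMap A K)]

/-- The henselizations of a reduced local ring are reduced. -/
theorem isReduced_H [IsReduced A] : IsReduced (Henz21.H A K) := by
  refine ⟨fun x hx => ?_⟩
  obtain ⟨i, hi⟩ := Hensel20.exists_stage (R := A) (K := K) ({()} : Finset Unit) fun _ => x
  obtain ⟨y, hy⟩ := hi () (Finset.mem_singleton_self _)
  haveI : IsReduced i.S := Unr55.isReduced_of_etale (A := A)
  haveI : IsReduced (Hensel20.Stage i) :=
    isReduced_localizationPreserves (Hensel20.stagePrime i).primeCompl _ inferInstance
  rw [← hy] at hx ⊢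
  rw [((IsNilpotent.map_iff (Hensel20.stageHom_injective i)).1 hx).eq_zero, map_zero]

theorem isDomain_H [IsReduced A] [Subsingleton (minimalPrimes (Henz21.H A K))] : IsDomain (Henz21.H A K) := by
  haveI := isReduced_H (A := A) K
  obtain ⟨N, hN, -⟩ := Ideal.exists_minimalPrimes_le (I := (⊥ : Ideal (Henz21.H A K))) (J := maximalIdeal _) bot_le
  have hbot : N = ⊥ := by
    refine eq_bot_iff.2 fun x hx => ?_
    have h2 : nilradical (Henz21.H A K) = ⊥ := nilradical_eq_zero _
    rw [← h2, nilradical_eq_sInf, Ideal.mem_sInf]
    intro P hP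
    haveI : P.IsPrime := hP
    obtain ⟨N', hN', hle⟩ := Ideal.exists_minimalPrimes_le (I := (⊥ : Ideal (Henz21.H A K))) (J := P) bot_le
    have : (⟨N, hN⟩ : minimalPrimes (Henz21.H A K)) = ⟨N', hN'⟩ := Subsingleton.elim _ _
    have e : N = N' := congrArg Subtype.val this
    exact hle (e ▸ hx)
  haveI : (⊥ : Ideal (Henz21.H A K)).IsPrime := hbot ▸ hN.1.1
  exact IsDomain.of_bot_isPrime _

/-- Over a domain, a ring map out of an integral henselization which is injective on the base is injective. -/
theorem injective_of_injective [IsDomain A] [IsDomain (Henz21.H A K)] {T : Type u} [CommRing T]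
    (φ : Henz21.H A K →+* T) (hφ : Function.Injective (φ.comp (algebraMap A (Henz21.H A K)))) :
    Function.Injective φ := by
  let ψ := φ.comp (algebraMap A (Henz21.H A K))
  obtain ⟨P, hP, hPc⟩ : ∃ P : Ideal T, P.IsPrime ∧ P.comap ψ = ⊥ :=
    Ideal.exists_comap_eq_of_mem_minimalPrimes_of_injective hφ ⊥
      ⟨⟨Ideal.isPrime_bot, le_rfl⟩, fun _ _ _ => bot_le⟩
  let φ' : Henz21.H A K →+* T ⧸ P := (Ideal.Quotient.mk P).comp φ
  refine (injective_iff_map_eq_zero φ).2 fun x hx => ?_
  obtain ⟨i, s, rfl⟩ := Henz21.H.exists_rep x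
  let P₀ : Ideal i.S := RingHom.ker (Henz21.H.incl i).toRingHom
  let P₁ : Ideal i.S := RingHom.ker (φ'.comp (Henz21.H.incl i).toRingHom)
  haveI : P₀.IsPrime := RingHom.ker_isPrime _
  haveI : P₁.IsPrime := RingHom.ker_isPrime _
  haveI : Module.FaithfullyFlat A (Henz21.H A K) := inferInstance
  have hle : P₀ ≤ P₁ := fun z hz => by
    show φ' (Henz21.H.incl i z) = 0
    rw [show Henz21.H.incl i z = 0 from hz, map_zero]
  have h₀ : P₀.under A = ⊥ := eq_bot_iff.2 fun a ha => by
    have : Henz21.H.incl i (algebraMap A i.S a) = 0 := ha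
    rw [AlgHom.commutes] at this
    exact FaithfulSMul.algebraMap_injective A (Henz21.H A K) (this.trans (map_zero _).symm)
  have h₁ : P₁.under A = ⊥ := eq_bot_iff.2 fun a ha => by
    have : φ' (Henz21.H.incl i (algebraMap A i.S a)) = 0 := ha
    rw [AlgHom.commutes] at this
    rw [← hPc]
    exact (Ideal.Quotient.eq_zero_iff_mem (I := P)).1 this
  have heq : P₀ = P₁ := Algebra.QuasiFinite.eq_of_le_of_under_eq P₀ P₁ hle (h₀.trans h₁.symm)
  have : s ∈ P₁ := by
    show φ' (Henz21.H.incl i s) = 0
    exact (congrArg (Ideal.Quotient.mk P) hx).trans (map_zero _)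
  rw [← heq] at this
  exact this

variable (A) in
/-- Unibranch local domains have integral henselization. -/
theorem isDomain_henselization [IsDomain A] (hA : CAlg2.IsUnibranch A) : IsDomain (Henz21.Henselization A) := by
  haveI : Subsingleton (minimalPrimes (Henz21.Henselization A)) := by
    have h := Brnch26.card_minimalPrimes_of_isHenselization (A := A) (Henz21.Henselization A)
    rw [(Brnch26.isUnibranch_iff A).2 hA, Brnch26.card_eq_one_iff] at h
    exact h.1
  exact isDomain_H _

variable (A) in
/-- Geometrically unibranch local domains have integral strict henselization. -/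
theorem isDomain_strictHenselization [IsDomain A] (hA : CAlg2.IsGeomUnibranch A) :
    IsDomain (Henz21.StrictHenselization A) := by
  haveI : Subsingleton (minimalPrimes (Henz21.StrictHenselization A)) := by
    have h := Brnch26.card_minimalPrimes_of_isStrictHenselization (A := A) (Henz21.StrictHenselization A)
    rw [(Brnch26.isGeomUnibranch_iff A).2 hA, Brnch26.card_eq_one_iff] at h
    exact h.1
  exact isDomain_H _

end Groth.Agent.Unib62
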