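import Groth.Agent.Hopf35.FlatLocusHensel
import Groth.Agent.FlatMor67.FlatAtBC
import Groth.Agent.Fib62.FlatExt
import Groth.Agent.Unib62.Henz

/-! Flatness detected after an injective local base change, over an integral henselization. -/

set_option autoImplicit false
set_option linter.style.haveILetI false

universe u

open IsLocalRing TensorProduct

namespace Groth.Agent.Unib62

/-- Flatness of a local ring of an algebra, read on localized modules. -/
theorem flatAt_self_iff {A P : Type u} [CommRing A] [CommRing P] [Algebra A P] (Q : Ideal P) [Q.IsPrime] :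
    FlatCA.FlatAt A Q P ↔ Module.Flat A (Localization.AtPrime Q) :=
  Module.Flat.equiv_iff
    ((IsLocalizedModule.iso Q.primeCompl (Algebra.linearMap P (Localization.AtPrime Q))).restrictScalars A)

section Hensel

variable {H S : Type u} [CommRing H] [HenselianLocalRing H] [CommRing S] [Algebra H S] [Algebra.FiniteType H S]
  (q : Ideal S) [q.IsPrime] [q.LiesOver (maximalIdeal H)]

/-- Over a henselian base, flatness descends along injective local homomorphisms. -/
theorem flat_atPrime_of_injective (A' P : Type u) [CommRing A'] [IsLocalRing A'] [Algebra H A']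
    [IsLocalHom (algebraMap H A')] (hinj : Function.Injective (algebraMap H A'))
    [CommRing P] [Algebra H P] [Algebra A' P] [Algebra S P] [IsScalarTower H A' P] [IsScalarTower H S P]
    [Algebra.IsPushout H S A' P]
    (h : ∀ (Q : Ideal P) [Q.IsPrime], Q.comap (algebraMap A' P) = maximalIdeal A' →
      Q.comap (algebraMap S P) = q → Module.Flat A' (Localization.AtPrime Q)) :
    Module.Flat H (Localization.AtPrime q) := by
  let B := Localization.AtPrime q
  have hι : IsBaseChange B (Algebra.linearMap S B) := IsBaseChange.linearMap S B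
  obtain ⟨I, hI⟩ := Hopf35.FlatLocus.exists_ideal_model (A := H) (B := B) (M := B) q hι
  obtain ⟨B₁, _, _, _, _, _, _, hB₁, -⟩ := Hopf35.FlatLocus.exists_pushout (R := H) (S := B) (T := A')
  haveI := hB₁
  have hbot : I.map (algebraMap H A') = ⊥ := by
    refine (hI A' B₁ B₁ (Algebra.linearMap B B₁) (IsBaseChange.linearMap B B₁)).1 ?_
    refine (Hopf35.FlatLocus.flat_above_iff (A := H) (A' := A') (P := P) q hι (IsBaseChange.linearMap S P)
      (IsBaseChange.linearMap B B₁)).2 fun Q _ h1 h2 => ?_
    exact (flatAt_self_iff Q).2 (h Q h1 h2)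
  have hI0 : I = ⊥ := by
    refine eq_bot_iff.2 fun x hx => ?_
    have hx' : algebraMap H A' x ∈ I.map (algebraMap H A') := Ideal.mem_map_of_mem _ hx
    rw [hbot, Submodule.mem_bot] at hx'
    exact hinj (hx'.trans (map_zero _).symm)
  haveI : Algebra.IsPushout H B H B := inferInstance
  have h1 := (hI H B B (Algebra.linearMap B B) (IsBaseChange.linearMap B B)).2 (by rw [hI0, Ideal.map_bot])
  have hq : Module.Flat H (Localization.AtPrime (maximalIdeal B)) :=
    (flatAt_self_iff _).1 (h1 (maximalIdeal B) (by
      rw [Algebra.algebraMap_self, Ideal.map_id, sup_le_iff]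
      refine ⟨Ideal.map_le_iff_le_comap.2 ?_, le_rfl⟩
      intro x hx
      rw [Ideal.mem_comap, IsScalarTower.algebraMap_apply H S B, IsLocalization.AtPrime.to_map_mem_maximal_iff B q]
      exact (Ideal.LiesOver.over (P := q) (p := maximalIdeal H)).le hx))
  haveI : IsLocalization (maximalIdeal B).primeCompl B := IsLocalization.self fun x hx =>
    Classical.not_not.1 fun hu => hx ((IsLocalRing.mem_maximalIdeal x).2 hu)
  exact Module.Flat.of_linearEquiv ((IsLocalization.algEquiv (maximalIdeal B).primeCompl B
    (Localization.AtPrime (maximalIdeal B))).toLinearEquiv.restrictScalars H)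

end Hensel

/-- Flatness at a prime of an algebra, tested on a henselization of the base which is a domain. -/
theorem flat_atPrime_of_henselization {A B : Type u} [CommRing A] [IsLocalRing A] [IsDomain A] [CommRing B]
    [Algebra A B] [Algebra.FiniteType A B] (K : Type u) [Field K] [Algebra A K] [IsLocalHom (algebraMap A K)]
    [HenselianLocalRing (Henz21.H A K)] [IsDomain (Henz21.H A K)]
    (q : Ideal B) [q.IsPrime] (S : Type u) [CommRing S] [Algebra A S] [Algebra (Henz21.H A K) S] [Algebra B S]
    [IsScalarTower A (Henz21.H A K) S] [IsScalarTower A B S] [Algebra.IsPushout A (Henz21.H A K) B S]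
    (qH : Ideal S) [qH.IsPrime] [qH.LiesOver (maximalIdeal (Henz21.H A K))] (hqH : qH.comap (algebraMap B S) = q)
    (A' P : Type u) [CommRing A'] [IsLocalRing A'] [Algebra (Henz21.H A K) A']
    [IsLocalHom (algebraMap (Henz21.H A K) A')]
    (hinj : Function.Injective ((algebraMap (Henz21.H A K) A').comp (algebraMap A (Henz21.H A K))))
    [CommRing P] [Algebra (Henz21.H A K) P] [Algebra A' P] [Algebra S P]
    [IsScalarTower (Henz21.H A K) A' P] [IsScalarTower (Henz21.H A K) S P]
    [Algebra.IsPushout (Henz21.H A K) S A' P]
    (h : ∀ (Q : Ideal P) [Q.IsPrime], Q.comap (algebraMap A' P) = maximalIdeal A' →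
      Q.comap (algebraMap S P) = qH → Module.Flat A' (Localization.AtPrime Q)) :
    Module.Flat A (Localization.AtPrime q) := by
  haveI : Algebra.FiniteType (Henz21.H A K) S :=
    Algebra.FiniteType.equiv inferInstance (Algebra.IsPushout.equiv A (Henz21.H A K) B S)
  have hflat := flat_atPrime_of_injective qH A' P (injective_of_injective K _ hinj) h
  haveI : qH.LiesOver q := ⟨hqH.symm⟩
  refine (flatAt_self_iff q).1 ?_
  have hiff := Fib62.flat_localized_baseChange_iff (D := A) (D' := Henz21.H A K) (S := B) (S' := S) B q qH
  refine hiff.2 ?_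
  exact (Module.Flat.equiv_iff ((IsLocalizedModule.mapEquiv qH.primeCompl
    (LocalizedModule.mkLinearMap qH.primeCompl (S ⊗[B] B)) (LocalizedModule.mkLinearMap qH.primeCompl S)
    (Localization qH.primeCompl) (AlgebraTensorModule.rid B S S)).restrictScalars (Henz21.H A K))).2
    ((flatAt_self_iff qH).2 hflat)

end Groth.Agent.Unib62
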