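import Groth.Agent.Unib62.Base
import Groth.Agent.FlatMor67.FlatAtStage
import Groth.Agent.FlatCrit65.FlatLocus.Module
import Mathlib.RingTheory.Spectrum.Prime.Jacobson

/-! A flat point over a local extension of the base gives one over an extension with algebraic residue field. -/

set_option autoImplicit false
set_option linter.style.haveILetI false

universe u

open IsLocalRing TensorProduct

attribute [local instance] Algebra.TensorProduct.rightAlgebra

namespace Groth.Agent.Unib62

/-- Finitely generated subalgebras form a directed system with the algebra as colimit. -/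
theorem isDirectedColimit_fg (A A₀ : Type u) [CommRing A] [CommRing A₀] [Algebra A A₀] :
    FlatCA.IsDirectedColimitRing (fun C : {C : Subalgebra A A₀ // C.FG} => C.1)
      (fun _ _ h => (Subalgebra.inclusion h).toRingHom) A₀ := by
  classical
  refine ⟨⟨fun C D => ⟨⟨C.1 ⊔ D.1, C.2.sup D.2⟩, show C.1 ≤ C.1 ⊔ D.1 from le_sup_left, show D.1 ≤ C.1 ⊔ D.1 from le_sup_right⟩⟩, ⟨⟨⊥, Subalgebra.fg_bot⟩⟩,
    fun C => ?_, fun C D E hCD hDE => ?_, fun C D h => ?_, fun a => ?_, fun C x hx => ?_⟩
  · exact RingHom.ext fun x => rfl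
  · exact RingHom.ext fun x => rfl
  · exact RingHom.ext fun x => rfl
  · exact ⟨⟨Algebra.adjoin A {a}, ⟨{a}, by simp⟩⟩, ⟨a, Algebra.subset_adjoin rfl⟩, rfl⟩
  · refine ⟨C, le_rfl, ?_⟩
    exact Subtype.ext hx

/-- A basic open neighbourhood of a flat point, in the convention of `FlatOnBasic`. -/
theorem exists_flatOnBasic {A B : Type u} [CommRing A] [CommRing B] [Algebra A B] [Algebra.FinitePresentation A B]
    (R : Type u) [CommRing R] [Algebra A R] (Q : Ideal (R ⊗[A] B)) [Q.IsPrime]
    (h : Module.Flat R (Localization.AtPrime Q)) :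
    ∃ f ∉ Q, FlatMor67.FlatOnBasic B R f := by
  let P := R ⊗[A] B
  haveI : IsScalarTower A B P := IsScalarTower.of_algebraMap_eq fun r =>
    ((Algebra.TensorProduct.includeRight : B →ₐ[A] P).commutes r).symm
  haveI : Module.FinitePresentation P (P ⊗[B] B) := inferInstance
  have hopen := FlatCrit65.isOpen_flat_locus_module (R := R) (S := P) (M := P ⊗[B] B)
  have hiff : ∀ (Q' : Ideal P) [Q'.IsPrime],
      Module.Flat R (LocalizedModule Q'.primeCompl (P ⊗[B] B)) ↔ Module.Flat R (Localization.AtPrime Q') := by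
    intro Q' _
    rw [← flatAt_self_iff Q']
    exact Module.Flat.equiv_iff ((IsLocalizedModule.mapEquiv Q'.primeCompl
      (LocalizedModule.mkLinearMap Q'.primeCompl (P ⊗[B] B)) (LocalizedModule.mkLinearMap Q'.primeCompl P)
      (Localization Q'.primeCompl) (AlgebraTensorModule.rid B P P)).restrictScalars R)
  obtain ⟨_, ⟨f, rfl⟩, hQf, hfU⟩ := PrimeSpectrum.isTopologicalBasis_basic_opens.exists_subset_of_mem_open
    (show (⟨Q, inferInstance⟩ : PrimeSpectrum P) ∈ {q : PrimeSpectrum P | Module.Flat R (LocalizedModule q.asIdeal.primeCompl (P ⊗[B] B))}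
      from (hiff Q).2 h) hopen
  exact ⟨f, hQf, fun Q' _ hf => hfU (show (⟨Q', inferInstance⟩ : PrimeSpectrum P) ∈ _ from hf)⟩

/-- In a fibre over a field an open condition at one point holds over a closed point. -/
theorem exists_closed_witness {A B C : Type u} [CommRing A] [IsLocalRing A] [CommRing B] [Algebra A B]
    [CommRing C] [Algebra A C] [Algebra.FiniteType A C]
    (q : Ideal B) [q.IsPrime] (hq : q.comap (algebraMap A B) = maximalIdeal A)
    (Q : Ideal (C ⊗[A] B)) [Q.IsPrime] (hQ : Q.comap (algebraMap B (C ⊗[A] B)) = q)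
    (hQC : (maximalIdeal A) ≤ Q.comap (algebraMap A (C ⊗[A] B))) (f : C ⊗[A] B) (hf : f ∉ Q) :
    ∃ Q' : Ideal (C ⊗[A] B), Q'.IsPrime ∧ f ∉ Q' ∧ Q'.comap (algebraMap B (C ⊗[A] B)) = q ∧
      (Q'.comap (algebraMap C (C ⊗[A] B))).IsMaximal ∧
      maximalIdeal A ≤ (Q'.comap (algebraMap C (C ⊗[A] B))).comap (algebraMap A C) := by
  let k := ResidueField A
  let I : Ideal C := (maximalIdeal A).map (algebraMap A C)
  let Cb := C ⧸ I
  letI : Algebra k Cb := (Ideal.Quotient.lift (maximalIdeal A) ((Ideal.Quotient.mk I).comp (algebraMap A C))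
    fun a ha => Ideal.Quotient.eq_zero_iff_mem.2 (Ideal.mem_map_of_mem _ ha)).toAlgebra
  haveI : IsScalarTower A k Cb := IsScalarTower.of_algebraMap_eq fun a => rfl
  haveI : Algebra.FiniteType k Cb := Algebra.FiniteType.of_restrictScalars_finiteType A k Cb
  haveI : JacobsonSpace (PrimeSpectrum Cb) :=
    PrimeSpectrum.isJacobsonRing_iff_jacobsonSpace.1 (isJacobsonRing_of_finiteType (A := k))
  let κ := q.ResidueField
  letI : Algebra k κ := (Ideal.Quotient.lift (maximalIdeal A) ((algebraMap B κ).comp (algebraMap A B))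
    fun a ha => by
      rw [RingHom.comp_apply, Ideal.algebraMap_residueField_eq_zero]
      exact hq.ge ha).toAlgebra
  haveI : IsScalarTower A k κ := IsScalarTower.of_algebraMap_eq fun a => IsScalarTower.algebraMap_apply A B κ a
  let T := Cb ⊗[k] κ
  let θ : C ⊗[A] B →ₐ[A] T := Algebra.TensorProduct.lift
    (((Algebra.TensorProduct.includeLeft : Cb →ₐ[k] T).restrictScalars A).comp (Ideal.Quotient.mkₐ A I))
    (((Algebra.TensorProduct.includeRight : κ →ₐ[k] T).restrictScalars A).comp (IsScalarTower.toAlgHom A B κ))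
    (fun _ _ => .all _ _)
  have hθB : ∀ (P : Ideal T) [P.IsPrime], (P.comap θ).comap (algebraMap B (C ⊗[A] B)) = q := by
    intro P _
    ext b
    have : θ (algebraMap B (C ⊗[A] B) b) = (Algebra.TensorProduct.includeRight : κ →ₐ[k] T) (algebraMap B κ b) := by
      show θ ((1 : C) ⊗ₜ[A] b) = _
      rw [Algebra.TensorProduct.lift_tmul, map_one, one_mul]
      rfl
    rw [Ideal.mem_comap, Ideal.mem_comap, this, ← Ideal.algebraMap_residueField_eq_zero (I := q)]
    refine ⟨fun h => ?_, fun h => by rw [h, map_zero]; exact zero_mem _⟩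
    by_contra hne
    exact ‹P.IsPrime›.ne_top (Ideal.eq_top_of_isUnit_mem _ h ((IsUnit.mk0 _ hne).map _))
  let L := Q.ResidueField
  let γ : Cb →+* L := Ideal.Quotient.lift I ((algebraMap (C ⊗[A] B) L).comp (algebraMap C (C ⊗[A] B))) fun c hc => by
    rw [RingHom.comp_apply, Ideal.algebraMap_residueField_eq_zero]
    refine (Ideal.map_le_iff_le_comap (K := Q.comap (algebraMap C (C ⊗[A] B)))).2 ?_ hc
    rw [Ideal.comap_comap, ← IsScalarTower.algebraMap_eq]
    exact hQC
  let δ : κ →+* L := Ideal.ResidueField.map q Q (algebraMap B (C ⊗[A] B)) hQ.symm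
  have hδ : ∀ b, δ (algebraMap B κ b) = algebraMap (C ⊗[A] B) L (algebraMap B (C ⊗[A] B) b) :=
    fun b => Ideal.ResidueField.map_algebraMap q Q (algebraMap B (C ⊗[A] B)) hQ.symm b
  letI : Algebra k L := (γ.comp (algebraMap k Cb)).toAlgebra
  have hk : δ.comp (algebraMap k κ) = γ.comp (algebraMap k Cb) := RingHom.ext fun x => by
    obtain ⟨a, rfl⟩ := residue_surjective x
    show δ (algebraMap B κ (algebraMap A B a)) = algebraMap (C ⊗[A] B) L (algebraMap C (C ⊗[A] B) (algebraMap A C a))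
    rw [hδ, ← IsScalarTower.algebraMap_apply A C (C ⊗[A] B), ← IsScalarTower.algebraMap_apply A B (C ⊗[A] B)]
  let Φ : T →ₐ[k] L := Algebra.TensorProduct.lift { γ with commutes' := fun r => rfl }
    { δ with commutes' := fun r => RingHom.congr_fun hk r } (fun _ _ => .all _ _)
  have hΦ : ∀ z, Φ (θ z) = algebraMap (C ⊗[A] B) L z := by
    intro z
    induction z using TensorProduct.induction_on with
    | zero => rw [map_zero, map_zero, map_zero]
    | add x y hx hy => rw [map_add, map_add, map_add, hx, hy]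
    | tmul c b =>
      show Φ ((Algebra.TensorProduct.includeLeft : Cb →ₐ[k] T) (Ideal.Quotient.mk I c) *
        (Algebra.TensorProduct.includeRight : κ →ₐ[k] T) (algebraMap B κ b)) = _
      rw [map_mul]
      show Φ (Ideal.Quotient.mk I c ⊗ₜ 1) * Φ (1 ⊗ₜ algebraMap B κ b) = _
      rw [Algebra.TensorProduct.lift_tmul, Algebra.TensorProduct.lift_tmul, map_one, map_one, mul_one, one_mul]
      show algebraMap (C ⊗[A] B) L (algebraMap C (C ⊗[A] B) c) * δ (algebraMap B κ b) = _
      rw [hδ, ← map_mul]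
      show algebraMap (C ⊗[A] B) L ((c ⊗ₜ[A] (1 : B)) * ((1 : C) ⊗ₜ[A] b)) = _
      rw [Algebra.TensorProduct.tmul_mul_tmul, mul_one, one_mul]
  let w : PrimeSpectrum T := ⟨RingHom.ker Φ, RingHom.ker_isPrime _⟩
  have hw : w ∈ PrimeSpectrum.basicOpen (θ f) := fun h => hf (by
    rw [← Ideal.algebraMap_residueField_eq_zero (I := Q), ← hΦ]
    exact h)
  have hopen := (PrimeSpectrum.isOpenMap_comap_algebraMap_tensorProduct_of_field (K := k) (A := Cb) (B := κ))
    _ (PrimeSpectrum.basicOpen (θ f)).isOpen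
  obtain ⟨y, ⟨v, hv, hvy⟩, hy⟩ := nonempty_inter_closedPoints (X := PrimeSpectrum Cb)
    (Z := PrimeSpectrum.comap (algebraMap Cb T) '' (PrimeSpectrum.basicOpen (θ f) : Set (PrimeSpectrum T)))
    ⟨_, ⟨w, hw, rfl⟩⟩ hopen.isLocallyClosed
  haveI hymax : y.asIdeal.IsMaximal := (PrimeSpectrum.isClosed_singleton_iff_isMaximal y).1 hy
  refine ⟨v.asIdeal.comap θ, Ideal.comap_isPrime _ _, fun h => hv h, hθB v.asIdeal, ?_⟩
  have heq : (v.asIdeal.comap θ).comap (algebraMap C (C ⊗[A] B)) = y.asIdeal.comap (Ideal.Quotient.mk I) := by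
    rw [← hvy]
    ext c
    show θ (c ⊗ₜ[A] (1 : B)) ∈ v.asIdeal ↔ algebraMap Cb T (Ideal.Quotient.mk I c) ∈ v.asIdeal
    rw [Algebra.TensorProduct.lift_tmul, map_one, mul_one]
    rfl
  rw [heq]
  refine ⟨Ideal.comap_isMaximal_of_surjective _ Ideal.Quotient.mk_surjective, fun a ha => ?_⟩
  rw [Ideal.mem_comap, Ideal.mem_comap, Ideal.Quotient.eq_zero_iff_mem.2 (Ideal.mem_map_of_mem _ ha)]
  exact zero_mem _

end Groth.Agent.Unib62
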