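import Groth.Agent.Unib62.Reduction

/-! Flatness descends along injective local homomorphisms out of (geometrically) unibranch domains. -/

set_option autoImplicit false
set_option linter.style.haveILetI false

universe u

open IsLocalRing TensorProduct

attribute [local instance] Algebra.TensorProduct.rightAlgebra

namespace Groth.Agent.Unib62

/-- The base change to a henselization, seen from the original ring. -/
theorem exists_pushout_tower {A B H S A'' P : Type u} [CommRing A] [CommRing B] [CommRing H] [CommRing S]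
    [CommRing A''] [CommRing P] [Algebra A B] [Algebra A H] [Algebra A S] [Algebra H S] [Algebra B S]
    [IsScalarTower A H S] [IsScalarTower A B S] [Algebra.IsPushout A H B S]
    [Algebra A A''] [Algebra H A''] [IsScalarTower A H A''] [Algebra H P] [Algebra A'' P] [Algebra S P]
    [IsScalarTower H A'' P] [IsScalarTower H S P] [Algebra.IsPushout H S A'' P] :
    ∃ (_ : Algebra A P) (_ : Algebra B P) (_ : IsScalarTower A B P) (_ : IsScalarTower A A'' P)
      (_ : IsScalarTower B S P), Algebra.IsPushout A B A'' P := by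
  letI : Algebra A P := ((algebraMap A'' P).comp (algebraMap A A'')).toAlgebra
  haveI : IsScalarTower A A'' P := IsScalarTower.of_algebraMap_eq fun _ => rfl
  letI : Algebra B P := ((algebraMap S P).comp (algebraMap B S)).toAlgebra
  haveI : IsScalarTower B S P := IsScalarTower.of_algebraMap_eq fun _ => rfl
  haveI : IsScalarTower A H P := IsScalarTower.of_algebraMap_eq fun a => by
    rw [IsScalarTower.algebraMap_apply A A'' P, IsScalarTower.algebraMap_apply A H A'', ← IsScalarTower.algebraMap_apply H A'' P]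
  haveI : IsScalarTower A S P := IsScalarTower.of_algebraMap_eq fun a => by
    rw [IsScalarTower.algebraMap_apply A H S, ← IsScalarTower.algebraMap_apply H S P, ← IsScalarTower.algebraMap_apply A H P]
  haveI : IsScalarTower A B P := IsScalarTower.of_algebraMap_eq fun a => by
    rw [IsScalarTower.algebraMap_apply B S P, ← IsScalarTower.algebraMap_apply A B S, IsScalarTower.algebraMap_apply A H S,
      ← IsScalarTower.algebraMap_apply H S P, ← IsScalarTower.algebraMap_apply A H P]
  haveI : Algebra.IsPushout H A'' S P := Algebra.IsPushout.symm inferInstance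
  exact ⟨inferInstance, inferInstance, inferInstance, inferInstance, inferInstance,
    ((Algebra.IsPushout.comp_iff A H B (S' := S) (T := A'') (T' := P)).2 inferInstance).symm⟩

variable {A B : Type u} [CommRing A] [IsLocalRing A] [IsDomain A] [CommRing B] [Algebra A B]
  [Algebra.FinitePresentation A B] (q : Ideal B) [q.IsPrime]

/-- Flatness at all points over a point gives flatness, for a unibranch base. -/
theorem flat_atPrime_of_forall (hA : CAlg2.IsUnibranch A) (hq : q.comap (algebraMap A B) = maximalIdeal A)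
    (A' : Type u) [CommRing A'] [IsLocalRing A'] [Algebra A A'] [IsLocalHom (algebraMap A A')]
    (hinj : Function.Injective (algebraMap A A'))
    (h : ∀ (Q : Ideal (A' ⊗[A] B)) [Q.IsPrime], Q.comap (algebraMap A' (A' ⊗[A] B)) = maximalIdeal A' →
      Q.comap (algebraMap B (A' ⊗[A] B)) = q → Module.Flat A' (Localization.AtPrime Q)) :
    Module.Flat A (Localization.AtPrime q) := by
  let H := Henz21.Henselization A
  haveI : IsDomain H := isDomain_henselization A hA
  obtain ⟨A'', _, _, _, _, _, _, _, _, _, hinj'', -⟩ := exists_dominating (A := A) (A' := A') (H := H) hinj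
  obtain ⟨S, _, _, _, _, _, _, hS, -⟩ := Hopf35.FlatLocus.exists_pushout (R := A) (S := H) (T := B)
  haveI := hS
  haveI : Algebra.IsPushout A B H S := Algebra.IsPushout.symm hS
  obtain ⟨qH, hqH, hqH1, hqH2⟩ := FlatMor67.FlatAtDesc.exists_prime_pushout (R := A) (S := B) (R' := H) (S' := S)
    q (maximalIdeal H) (hq.trans (comap_maximal (algebraMap A H)).symm)
  haveI : qH.LiesOver (maximalIdeal H) := ⟨hqH2.symm⟩
  obtain ⟨P, _, _, _, _, _, _, hP, -⟩ := Hopf35.FlatLocus.exists_pushout (R := H) (S := S) (T := A'')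
  haveI := hP
  obtain ⟨_, _, _, _, _, _⟩ := exists_pushout_tower (A := A) (B := B) (H := H) (S := S) (A'' := A'') (P := P)
  haveI : IsScalarTower A B (A' ⊗[A] B) := IsScalarTower.of_algebraMap_eq fun r =>
    ((Algebra.TensorProduct.includeRight : B →ₐ[A] A' ⊗[A] B).commutes r).symm
  haveI : Algebra.IsPushout A B A' (A' ⊗[A] B) := Algebra.IsPushout.symm inferInstance
  refine flat_atPrime_of_henselization (ResidueField A) q S qH hqH1 A'' P hinj'' fun Q _ h1 h2 => ?_
  refine flat_of_forall (A := A) (A' := A') (P' := A' ⊗[A] B) q h Q h1 ?_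
  rw [IsScalarTower.algebraMap_eq B S P, ← Ideal.comap_comap, h2, hqH1]

/-- A flat point with algebraic residue extension gives flatness, for a geometrically unibranch base. -/
theorem flat_atPrime_of_exists_algebraic (hA : CAlg2.IsGeomUnibranch A)
    (hq : q.comap (algebraMap A B) = maximalIdeal A)
    (A' : Type u) [CommRing A'] [IsLocalRing A'] [Algebra A A'] [IsLocalHom (algebraMap A A')]
    (hinj : Function.Injective (algebraMap A A'))
    (halg : ∀ a : A', ∃ p : Polynomial A, p.Monic ∧ Polynomial.aeval a p ∈ maximalIdeal A')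
    (P' : Type u) [CommRing P'] [Algebra B P'] [Algebra A' P'] [Algebra A P'] [IsScalarTower A B P']
    [IsScalarTower A A' P'] [Algebra.IsPushout A B A' P']
    (Q' : Ideal P') [Q'.IsPrime] (h1 : Q'.comap (algebraMap A' P') = maximalIdeal A')
    (h2 : Q'.comap (algebraMap B P') = q) (h : Module.Flat A' (Localization.AtPrime Q')) :
    Module.Flat A (Localization.AtPrime q) := by
  let H := Henz21.StrictHenselization A
  haveI : IsDomain H := isDomain_strictHenselization A hA
  obtain ⟨A'', _, _, _, _, _, _, _, _, _, hinj'', hres⟩ := exists_dominating (A := A) (A' := A') (H := H) hinj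
  haveI : IsSepClosed (ResidueField H) :=
    (Hensel.IsStrictHenselization.isSepClosure (R := A) (S := H)).sep_closed
  haveI : Algebra.IsAlgebraic (ResidueField H) (ResidueField A'') := ⟨hres halg⟩
  haveI : IsPurelyInseparable (ResidueField H) (ResidueField A'') := inferInstance
  obtain ⟨S, _, _, _, _, _, _, hS, -⟩ := Hopf35.FlatLocus.exists_pushout (R := A) (S := H) (T := B)
  haveI := hS
  obtain ⟨P, _, _, _, _, _, _, hP, -⟩ := Hopf35.FlatLocus.exists_pushout (R := H) (S := S) (T := A'')
  haveI := hP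
  obtain ⟨_, _, _, _, _, _⟩ := exists_pushout_tower (A := A) (B := B) (H := H) (S := S) (A'' := A'') (P := P)
  obtain ⟨Q₀, _, hQ₀, hQ₀B, hflat⟩ := exists_flat_lift (A := A) (B := B) (A' := A') (A'' := A'') P Q' h1 h
  let qH : Ideal S := Q₀.comap (algebraMap S P)
  haveI : qH.LiesOver (maximalIdeal H) := ⟨by
    rw [Ideal.under_def, Ideal.comap_comap, ← IsScalarTower.algebraMap_eq, IsScalarTower.algebraMap_eq H A'' P,
      ← Ideal.comap_comap, hQ₀, comap_maximal]⟩
  have hqH : qH.comap (algebraMap B S) = q := by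
    rw [Ideal.comap_comap, ← IsScalarTower.algebraMap_eq, hQ₀B, h2]
  refine flat_atPrime_of_henselization (SeparableClosure (ResidueField A)) q S qH hqH A'' P hinj'' fun Q _ e1 e2 => ?_
  obtain rfl : Q = Q₀ := eq_of_purelyInseparable (H := H) (S := S) (A'' := A'') Q Q₀ e1 hQ₀ e2
  exact hflat

/-- One flat point gives flatness, for a geometrically unibranch base. -/
theorem flat_atPrime_of_exists (hA : CAlg2.IsGeomUnibranch A)
    (hq : q.comap (algebraMap A B) = maximalIdeal A)
    (A' : Type u) [CommRing A'] [IsLocalRing A'] [Algebra A A'] [IsLocalHom (algebraMap A A')]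
    (hinj : Function.Injective (algebraMap A A'))
    (Q' : Ideal (A' ⊗[A] B)) [Q'.IsPrime] (h1 : Q'.comap (algebraMap A' (A' ⊗[A] B)) = maximalIdeal A')
    (h2 : Q'.comap (algebraMap B (A' ⊗[A] B)) = q) (h : Module.Flat A' (Localization.AtPrime Q')) :
    Module.Flat A (Localization.AtPrime q) := by
  have htower : ∀ (R : Type u) [CommRing R] [Algebra A R], IsScalarTower A B (R ⊗[A] B) := fun R _ _ =>
    IsScalarTower.of_algebraMap_eq fun r => ((Algebra.TensorProduct.includeRight : B →ₐ[A] R ⊗[A] B).commutes r).symm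
  haveI := htower A'
  haveI : Algebra.IsPushout A B A' (A' ⊗[A] B) := Algebra.IsPushout.symm inferInstance
  -- pass to a domain
  obtain ⟨P₀, hP₀, hP₀c⟩ := Ideal.exists_comap_eq_of_mem_minimalPrimes_of_injective hinj (⊥ : Ideal A)
    ⟨⟨Ideal.isPrime_bot, le_rfl⟩, fun _ _ _ => bot_le⟩
  let A₀ := A' ⧸ P₀
  haveI : IsLocalHom (algebraMap A' A₀) := IsLocalHom.of_surjective _ Ideal.Quotient.mk_surjective
  haveI : IsLocalHom (algebraMap A A₀) := by
    rw [IsScalarTower.algebraMap_eq A A' A₀]
    exact RingHom.isLocalHom_comp _ _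
  haveI := htower A₀
  haveI : Algebra.IsPushout A B A₀ (A₀ ⊗[A] B) := Algebra.IsPushout.symm inferInstance
  haveI : IsLocalRing A₀ := IsLocalRing.of_surjective' (Ideal.Quotient.mk P₀) Ideal.Quotient.mk_surjective
  obtain ⟨Q, _, hQ1, hQ2, hQflat⟩ := exists_flat_lift (A := A) (B := B) (A' := A') (A'' := A₀) (A₀ ⊗[A] B) Q' h1 h
  rw [h2] at hQ2
  have hinj₀ : Function.Injective (algebraMap A A₀) := by
    rw [injective_iff_map_eq_zero]
    intro a ha
    have : a ∈ P₀.comap (algebraMap A A') := (Ideal.Quotient.eq_zero_iff_mem (I := P₀)).1 ha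
    rwa [hP₀c] at this
  -- descend to a finitely generated subalgebra
  obtain ⟨f₀, hf₀, hopen₀⟩ := exists_flatOnBasic (A := A) (B := B) A₀ Q hQflat
  let G : {C : Subalgebra A A₀ // C.FG} → Type u := fun C => C.1
  let g : ∀ i j, i ≤ j → G i →ₐ[A] G j := fun i j h => Subalgebra.inclusion h
  have hcolim : FlatCA.IsDirectedColimitRing G (fun i j h => (g i j h).toRingHom) A₀ := isDirectedColimit_fg A A₀
  obtain ⟨i, y, hy⟩ := FlatMor67.exists_mapColim_eq G g A₀ hcolim f₀
  rw [← hy] at hopen₀ hf₀
  obtain ⟨j, hij, hopen⟩ := FlatMor67.exists_flatOnBasic_stage G g A₀ hcolim i y hopen₀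
  rw [← FlatMor67.mapColim_mapStage G g A₀ hcolim i j hij] at hf₀
  let f := FlatMor67.mapStage G g B i j hij y
  let C := j.1
  haveI : Algebra.FiniteType A C := (Subalgebra.fg_iff_finiteType C).1 j.2
  let φ : C ⊗[A] B →ₐ[A] A₀ ⊗[A] B := FlatMor67.mapColim G A₀ B j
  haveI := htower C
  let QC : Ideal (C ⊗[A] B) := Q.comap φ
  have hφB : ∀ b, φ (algebraMap B (C ⊗[A] B) b) = algebraMap B (A₀ ⊗[A] B) b := fun b => by
    show φ ((1 : C) ⊗ₜ[A] b) = (1 : A₀) ⊗ₜ[A] b
    exact (Algebra.TensorProduct.map_tmul _ _ _ _).trans (by rw [map_one]; rfl)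
  obtain ⟨Q₁, hQ₁, hfQ₁, hQ₁B, hmax, hmA⟩ := exists_closed_witness (A := A) (B := B) (C := C) q hq QC
    (by rw [← hQ2]; ext b; simp only [QC, Ideal.mem_comap, hφB]) (fun a ha => by
      show φ (algebraMap A (C ⊗[A] B) a) ∈ Q
      rw [AlgHom.commutes, IsScalarTower.algebraMap_apply A A₀ (A₀ ⊗[A] B), ← Ideal.mem_comap, hQ1]
      exact map_nonunit (algebraMap A A₀) a ha)
    f hf₀
  -- localise at the closed point
  let m := Q₁.comap (algebraMap C (C ⊗[A] B))
  let A₁ := Localization.AtPrime m
  haveI : IsLocalHom (algebraMap A A₁) := isLocalHom_atPrime m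
    (((IsLocalRing.maximalIdeal.isMaximal A).eq_of_le (Ideal.IsPrime.ne_top inferInstance) hmA).symm)
  have hinjC : Function.Injective (algebraMap A C) := fun a b hab => hinj₀ (congrArg Subtype.val hab)
  have hinj₁ : Function.Injective (algebraMap A A₁) := by
    rw [IsScalarTower.algebraMap_eq A C A₁]
    exact (IsLocalization.injective A₁ m.primeCompl_le_nonZeroDivisors).comp hinjC
  have halg : ∀ a : A₁, ∃ p : Polynomial A, p.Monic ∧ Polynomial.aeval a p ∈ maximalIdeal A₁ := by
    intro a
    haveI : IsLocalHom (algebraMap A A₁) := inferInstance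
    let L := C ⧸ m
    letI : Field L := Ideal.Quotient.field m
    letI : Algebra (ResidueField A) L := (Ideal.Quotient.lift (maximalIdeal A) (algebraMap A L) fun x hx => by
      rw [IsScalarTower.algebraMap_apply A C L]
      exact Ideal.Quotient.eq_zero_iff_mem.2 (hmA hx)).toAlgebra
    haveI : IsScalarTower A (ResidueField A) L := IsScalarTower.of_algebraMap_eq fun x => rfl
    haveI : Algebra.FiniteType A L := Algebra.FiniteType.of_surjective (Ideal.Quotient.mkₐ A m) Ideal.Quotient.mk_surjective
    haveI : Algebra.FiniteType (ResidueField A) L := Algebra.FiniteType.of_restrictScalars_finiteType A _ _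
    haveI : Module.Finite (ResidueField A) L := finite_of_finite_type_of_isJacobsonRing _ _
    let e := IsLocalization.AtPrime.equivQuotMaximalIdeal m A₁
    obtain ⟨p₀, hp₀, hroot⟩ := Algebra.IsIntegral.isIntegral (R := ResidueField A) (e.symm (Ideal.Quotient.mk _ a))
    obtain ⟨p, hp, hdeg, hmon⟩ := Polynomial.lifts_and_degree_eq_and_monic
      ((Polynomial.mem_lifts _).2 (Polynomial.map_surjective (residue A) residue_surjective p₀)) hp₀
    refine ⟨p, hmon, ?_⟩
    rw [← hp, Polynomial.eval₂_map] at hroot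
    have h0 := congrArg e hroot
    rw [map_zero] at h0
    have hcomp : (e : L →+* A₁ ⧸ maximalIdeal A₁).comp ((algebraMap (ResidueField A) L).comp (residue A)) =
        (Ideal.Quotient.mk (maximalIdeal A₁)).comp (algebraMap A A₁) := RingHom.ext fun x => by
      show e (Ideal.Quotient.mk m (algebraMap A C x)) = _
      rw [IsLocalization.AtPrime.equivQuotMaximalIdeal_apply_mk]
      rw [RingHom.comp_apply, IsScalarTower.algebraMap_apply A C A₁]
    have h0' := (Polynomial.hom_eval₂ p _ (e : L →+* A₁ ⧸ maximalIdeal A₁) _).symm.trans h0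
    rw [hcomp, show (e : L →+* A₁ ⧸ maximalIdeal A₁) (e.symm (Ideal.Quotient.mk _ a)) = Ideal.Quotient.mk _ a from
      e.apply_symm_apply _, ← Polynomial.hom_eval₂, ← Polynomial.aeval_def] at h0'
    exact Ideal.Quotient.eq_zero_iff_mem.1 h0'
  -- flatness over the localisation
  have hflat₁ : Module.Flat C (Localization.AtPrime Q₁) := by
    refine (flatAt_self_iff Q₁).1 ?_
    exact (Module.Flat.equiv_iff ((IsLocalizedModule.mapEquiv Q₁.primeCompl
      (LocalizedModule.mkLinearMap Q₁.primeCompl ((C ⊗[A] B) ⊗[B] B)) (LocalizedModule.mkLinearMap Q₁.primeCompl (C ⊗[A] B))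
      (Localization Q₁.primeCompl) (AlgebraTensorModule.rid B (C ⊗[A] B) (C ⊗[A] B))).restrictScalars C)).1
      (hopen Q₁ hfQ₁)
  haveI := htower A₁
  haveI : Algebra.IsPushout A B C (C ⊗[A] B) := Algebra.IsPushout.symm inferInstance
  haveI : Algebra.IsPushout A B A₁ (A₁ ⊗[A] B) := Algebra.IsPushout.symm inferInstance
  obtain ⟨_, _, _, _, _, _, _⟩ := exists_square A B C (C ⊗[A] B) A₁ (A₁ ⊗[A] B)
  obtain ⟨Q₂, hQ₂, hQ₂1, hQ₂2⟩ := FlatMor67.FlatAtDesc.exists_prime_pushout (R := C) (S := C ⊗[A] B) (R' := A₁)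
    (S' := A₁ ⊗[A] B) Q₁ (maximalIdeal A₁) (IsLocalization.AtPrime.under_maximalIdeal A₁ m).symm
  refine flat_atPrime_of_exists_algebraic q hA hq A₁ hinj₁ halg (A₁ ⊗[A] B) Q₂ hQ₂2 ?_ ?_
  · exact ((by rw [Ideal.comap_comap, ← IsScalarTower.algebraMap_eq] : Q₂.comap (algebraMap B (A₁ ⊗[A] B)) =
      (Q₂.comap (algebraMap (C ⊗[A] B) (A₁ ⊗[A] B))).comap (algebraMap B (C ⊗[A] B))).trans
      (congrArg (Ideal.comap _) hQ₂1)).trans hQ₁B
  · refine flat_atPrime_baseChange (R := C) (S := C ⊗[A] B) Q₂ ?_
    exact (fun (Q : Ideal (C ⊗[A] B)) (_ : Q.IsPrime) (e : Q = Q₁) => (by subst e; exact hflat₁ :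
      Module.Flat C (Localization.AtPrime Q))) _ inferInstance hQ₂1

end Groth.Agent.Unib62
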